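import Cfsg.Agent.Lib.FrakH55.Basic
import Cfsg.Agent.Lib.LocalChar.LLemma
import Cfsg.Agent.Lib.Involution.BaerSuzuki
import Cfsg.Agent.Lib.Narrow.Action

/-!
# Minimal subgroups of a member of `ℌ_G(O_p(M))` over `Y_M`, asymmetric case

For `g` with `L = ⟨Y, Y^g⟩` the subgroup `Φ = (Y ∩ O_p(H))^g (O_p(H) ∩ T)` is normal in `H`, so
`O_p(H) ∩ T = (Y ∩ O_p(H)) C_{O_p(H)}(L)`.  If `k ∈ L` has `Y^k ≤ T` then `X = ⟨T, T^k⟩` stabilizes
a series of `Y O_p(H)` up to a `p`-group, so normalizes `Y`, and weak closure gives `Y^k = Y`.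
-/

set_option autoImplicit false

namespace Cfsg.Agent.Lib.LLemmaAsym55

open Cfsg Subgroup Cfsg.Agent.Lib.LocalChar
open Cfsg.Agent.Lib.RankTwo (stabilizesSection)
open scoped commutatorElement Pointwise

universe u

variable {G : Type u} [Group G]

local notation:80 X:80 " ^ᶜ " g:81 => Subgroup.map (MulEquiv.toMonoidHom (MulAut.conj g)) X

theorem le_centralizer_singleton_iff {A : Subgroup G} {x : G} :
    A ≤ centralizer ({x} : Set G) ↔ x ∈ centralizer (A : Set G) := by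
  constructor
  · exact fun h => mem_centralizer_iff.mpr fun a ha => mem_centralizer_singleton_iff.mp (h ha)
  · exact fun h a ha => mem_centralizer_singleton_iff.mpr (mem_centralizer_iff.mp h a ha)

theorem normalizes_sup_of_comm [Finite G] {A U Z : Subgroup G} (hU : A ≤ normalizer (U : Set G))
    (h : ⁅A, Z⁆ ≤ U) : A ≤ normalizer ((U ⊔ Z : Subgroup G) : Set G) := by
  intro a ha
  refine mem_normalizer_of_conj_map_le ?_
  rw [Subgroup.map_sup, conj_map_eq_of_mem (hU ha)]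
  refine sup_le le_sup_left ?_
  rintro _ ⟨z, hz, rfl⟩
  show a * z * a⁻¹ ∈ U ⊔ Z
  rw [show a * z * a⁻¹ = ⁅a, z⁆ * z by rw [commutatorElement_def]; group]
  exact mul_mem (mem_sup_left (h (commutator_mem_commutator ha hz))) (mem_sup_right hz)

theorem comm_sup_le [Finite G] {R B₁ B₂ C : Subgroup G} (h₁ : ⁅R, B₁⁆ ≤ C) (h₂ : ⁅R, B₂⁆ ≤ C)
    (hn₁ : B₁ ≤ normalizer (C : Set G)) (hn₂ : B₂ ≤ normalizer (C : Set G)) :
    ⁅R, B₁ ⊔ B₂⁆ ≤ C := by
  refine Subgroup.commutator_le.mpr fun r hr b hb => ?_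
  have key : ∀ x ∈ B₁ ⊔ B₂, x ∈ normalizer (C : Set G) ∧ ⁅r, x⁆ ∈ C := by
    intro x hx
    rw [sup_eq_closure] at hx
    induction hx using closure_induction with
    | mem y hy =>
      rcases hy with hy | hy
      · exact ⟨hn₁ hy, h₁ (commutator_mem_commutator hr hy)⟩
      · exact ⟨hn₂ hy, h₂ (commutator_mem_commutator hr hy)⟩
    | one => exact ⟨one_mem _, by simp⟩
    | mul a c _ _ iha ihc =>
      refine ⟨mul_mem iha.1 ihc.1, ?_⟩
      rw [show ⁅r, a * c⁆ = ⁅r, a⁆ * (a * ⁅r, c⁆ * a⁻¹) by simp only [commutatorElement_def]; group]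
      exact mul_mem iha.2 (conj_mem_of_mem_normalizer iha.1 ihc.2)
    | inv a _ iha =>
      refine ⟨inv_mem iha.1, ?_⟩
      rw [show ⁅r, a⁻¹⁆ = a⁻¹ * ⁅r, a⁆⁻¹ * a by simp only [commutatorElement_def]; group]
      exact conj_mem_of_mem_normalizer' iha.1 (inv_mem iha.2)
  exact (key b hb).2

/-- An element normalizing both members normalizes the stabilizer of the section. -/
theorem conj_mem_stabilizesSection {U V : Subgroup G} {a s : G} (hU : a ∈ normalizer (U : Set G))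
    (hV : a ∈ normalizer (V : Set G)) (hs : s ∈ stabilizesSection U V) :
    a * s * a⁻¹ ∈ stabilizesSection U V := by
  obtain ⟨h1, h2, h3⟩ := hs
  refine ⟨mul_mem (mul_mem hU h1) (inv_mem hU), mul_mem (mul_mem hV h2) (inv_mem hV), fun u hu => ?_⟩
  rw [show a * s * a⁻¹ * u * (a * s * a⁻¹)⁻¹ * u⁻¹
    = a * (s * (a⁻¹ * u * a) * s⁻¹ * (a⁻¹ * u * a)⁻¹) * a⁻¹ by group]
  exact conj_mem_of_mem_normalizer hV (h3 _ (conj_mem_of_mem_normalizer' hU hu))

theorem le_normalizer_stabilizesSection [Finite G] {A U V : Subgroup G}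
    (hU : A ≤ normalizer (U : Set G)) (hV : A ≤ normalizer (V : Set G)) :
    A ≤ normalizer ((stabilizesSection U V : Subgroup G) : Set G) := fun a ha =>
  mem_normalizer_of_conj_map_le <| by
    rintro _ ⟨s, hs, rfl⟩
    exact conj_mem_stabilizesSection (hU ha) (hV ha) hs

variable [Finite G] {p : ℕ} [hp : Fact p.Prime]

/-- `V = W [V, T]` forces `V = W` for `p`-groups. -/
theorem le_of_le_sup_commutator {V W T : Subgroup G} (hV : IsPGroup p ↥V) (hT : IsPGroup p ↥T)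
    (hTV : T ≤ normalizer (V : Set G)) (hWn : V ⊔ T ≤ normalizer (W : Set G))
    (h : V ≤ W ⊔ ⁅V, T⁆) : V ≤ W := by
  obtain ⟨N, hN⟩ := (isNilpotent_iff_lowerCentralSeries (V ⊔ T)).mp
    (hV.to_sup_of_normal_left' hT hTV).isNilpotent
  have key : ∀ k, V ≤ W ⊔ (V ⊔ T).lowerCentralSeries k := by
    intro k
    induction k with
    | zero => exact le_trans le_sup_left le_sup_right
    | succ k ih =>
      have hLk : (V ⊔ T).lowerCentralSeries k ≤ V ⊔ T :=
        lowerCentralSeries_le_self _ _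
      refine h.trans (sup_le le_sup_left (Subgroup.commutator_le.mpr fun v hv t ht => ?_))
      have hv' := ih hv
      rw [← SetLike.mem_coe, coe_mul_of_right_le_normalizer_left W _ (hLk.trans hWn)] at hv'
      obtain ⟨w, hw, l, hl, rfl⟩ := hv'
      rw [show ⁅w * l, t⁆ = w * ⁅l, t⁆ * w⁻¹ * ⁅w, t⁆ by simp only [commutatorElement_def]; group]
      refine mul_mem (mul_mem (mul_mem (mem_sup_left hw) (mem_sup_right ?_))
        (inv_mem (mem_sup_left hw))) (mem_sup_left ?_)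
      · rw [Subgroup.lowerCentralSeries_succ]
        exact commutator_mem_commutator hl (mem_sup_right ht)
      · have htn := hWn (mem_sup_right ht)
        rw [show ⁅w, t⁆ = w * (t * w⁻¹ * t⁻¹) by rw [commutatorElement_def]; group]
        exact mul_mem hw (conj_mem_of_mem_normalizer htn (inv_mem hw))
  simpa [hN] using key N

/-- The standing hypotheses. -/
structure Ctx (S : Sylow p G) (M H L : Subgroup G) : Prop where
  bs : BasicSetting S M
  hasym : ¬ IsSymmetricIn (largestPReducedOf p M : Subgroup G)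
  hH : IsInFrakH p M H
  hLH : L ≤ H
  hYL : largestPReducedOf p M ≤ L
  hYO : ¬ largestPReducedOf p M ≤ pCoreOf p L
  hmin : ∀ L' : Subgroup G, L' ≤ L → largestPReducedOf p M ≤ L' →
    ¬ largestPReducedOf p M ≤ pCoreOf p L' → L' = L

variable {S : Sylow p G} {M H L : Subgroup G}

local notation "Y₀" => largestPReducedOf p M
local notation "T₀" => pCoreOf p M
local notation "C₀" => centralizer ((largestPReducedOf p M : Subgroup G) : Set G)
local notation "Ω" => pCoreOf p H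
local notation "I₀" => largestPReducedOf p M ⊓ pCoreOf p H
local notation "Ω₀" => pCoreOf p H ⊓ pCoreOf p M

namespace Ctx

theorem le_pCoreOf_of_lt (c : Ctx S M H L) {X : Subgroup G} (hY : Y₀ ≤ X) (hX : X < L) :
    Y₀ ≤ pCoreOf p X := by
  by_contra hne
  exact hX.ne (c.hmin X hX.le hY hne)

theorem sup_T (c : Ctx S M H L) : L ⊔ T₀ = H := by
  by_contra hne
  have hle : L ⊔ T₀ ≤ H := sup_le c.hLH c.hH.2.1
  have h1 := c.hH.2.2.2 _ le_sup_right (lt_of_le_of_ne hle hne)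
  exact c.hYO ((le_inf h1 c.hYL).trans (CharP.le_pCoreOf inf_le_right
    ((CharP.pCoreOf_isPGroup _).to_le inf_le_left)
    (le_normalizer_inf_of_le (le_sup_left.trans (CharP.le_normalizer_pCoreOf _))
      Subgroup.le_normalizer)))

theorem resOf_sup_Y (c : Ctx S M H L) : (pResidual p ↥L).map L.subtype ⊔ Y₀ = L := by
  by_contra hne
  have hle : (pResidual p ↥L).map L.subtype ⊔ Y₀ ≤ L := sup_le (resOf_le L) c.hYL
  exact c.hYO ((c.le_pCoreOf_of_lt le_sup_right (lt_of_le_of_ne hle hne)).trans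
    (FrakH55.pCoreOf_le_of_resOf_le hle le_sup_left))

theorem normalizer_T_le (c : Ctx S M H L) :
    normalizer ((T₀ : Subgroup G) : Set G) ≤ normalizer ((Y₀ : Subgroup G) : Set G) :=
  c.bs.normalizer_pCoreOf_le.trans c.bs.normalizer_largest.ge

theorem omega_le_normalizer_T (c : Ctx S M H L) : Ω ≤ normalizer ((T₀ : Subgroup G) : Set G) :=
  FrakH55.pCoreOf_le_normalizer c.bs c.hasym c.hH.2.1

theorem omega_le_normalizer_Y (c : Ctx S M H L) : Ω ≤ normalizer ((Y₀ : Subgroup G) : Set G) :=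
  c.omega_le_normalizer_T.trans c.normalizer_T_le

theorem Y_le_H (c : Ctx S M H L) : Y₀ ≤ H := c.hYL.trans c.hLH

theorem T_le_normalizer_I (c : Ctx S M H L) : T₀ ≤ normalizer ((I₀ : Subgroup G) : Set G) :=
  le_normalizer_inf_of_le (Subgroup.le_normalizer.trans c.normalizer_T_le)
    (c.hH.2.1.trans (CharP.le_normalizer_pCoreOf H))

theorem omega_conj (_c : Ctx S M H L) {g : G} (hg : g ∈ H) : (Ω) ^ᶜ g = Ω :=
  conj_map_eq_of_mem (CharP.le_normalizer_pCoreOf H hg)

theorem I_conj (c : Ctx S M H L) {g : G} (hg : g ∈ H) : (I₀) ^ᶜ g = (Y₀) ^ᶜ g ⊓ Ω := by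
  rw [Subgroup.map_inf _ _ _ (MulAut.conj g).injective, c.omega_conj hg]

theorem omega_le_normalizer_Yg (c : Ctx S M H L) {g : G} (hg : g ∈ H) :
    Ω ≤ normalizer (((Y₀) ^ᶜ g : Subgroup G) : Set G) := by
  rw [normalizer_conj_map, ← c.omega_conj hg]
  exact map_mono c.omega_le_normalizer_Y

theorem comm_omega_Y (c : Ctx S M H L) : ⁅Ω, Y₀⁆ ≤ I₀ :=
  le_inf (le_normalizer_iff_commutator_le_right.mp c.omega_le_normalizer_Y)
    (le_normalizer_iff_commutator_le_left.mp (c.Y_le_H.trans (CharP.le_normalizer_pCoreOf H)))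

theorem comm_omega_Yg (c : Ctx S M H L) {g : G} (hg : g ∈ H) : ⁅Ω, (Y₀) ^ᶜ g⁆ ≤ (I₀) ^ᶜ g := by
  have h := map_mono (f := (MulAut.conj g).toMonoidHom) c.comm_omega_Y
  rwa [Subgroup.map_commutator, c.omega_conj hg] at h

theorem comm_omega_T (c : Ctx S M H L) : ⁅Ω, T₀⁆ ≤ Ω₀ :=
  le_inf (le_normalizer_iff_commutator_le_left.mp (c.hH.2.1.trans (CharP.le_normalizer_pCoreOf H)))
    (le_normalizer_iff_commutator_le_right.mp c.omega_le_normalizer_T)

theorem mem_omega0 (c : Ctx S M H L) {o : G} (ho : o ∈ Ω) (hC : o ∈ C₀) : o ∈ Ω₀ :=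
  ⟨ho, c.bs.le_pCoreOf ((CharP.pCoreOf_isPGroup H).to_le (zpowers_le.mpr ho)) (zpowers_le.mpr hC)
    (zpowers_le.mpr (c.omega_le_normalizer_T ho)) (mem_zpowers o)⟩

/-- Conjugation by an element of `C_H(Y_M)`. -/
theorem conj (c : Ctx S M H L) {a : G} (ha : a ∈ H) (haY : a ∈ C₀) : Ctx S M H (L ^ᶜ a) := by
  have hY : (Y₀) ^ᶜ a = Y₀ := conj_map_eq_of_mem (centralizer_le_normalizer _ haY)
  have hY' : (Y₀) ^ᶜ a⁻¹ = Y₀ :=
    conj_map_eq_of_mem (centralizer_le_normalizer _ (inv_mem haY))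
  refine ⟨c.bs, c.hasym, c.hH, ?_, ?_, ?_, fun L' hL' hYL' hY'' => ?_⟩
  · exact (map_mono c.hLH).trans (LocalChar.conj_map_of_mem ha).le
  · rw [← hY]
    exact map_mono c.hYL
  · rw [Amalgam.pCoreOf_map _ (MulAut.conj a).injective]
    nth_rewrite 1 [← hY]
    rw [map_le_map_iff_of_injective (MulAut.conj a).injective]
    exact c.hYO
  · have h1 : L' ^ᶜ a⁻¹ = L := by
      refine c.hmin _ ?_ ?_ ?_
      · rw [conj_map_le_iff, inv_inv]; exact hL'
      · rw [← hY']; exact map_mono hYL'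
      · rw [Amalgam.pCoreOf_map _ (MulAut.conj a⁻¹).injective]
        nth_rewrite 1 [← hY']
        rw [map_le_map_iff_of_injective (MulAut.conj a⁻¹).injective]
        exact hY''
    rw [← h1, conj_map_conj_map, mul_inv_cancel, conj_map_one]

theorem isPGroup_of_ne (c : Ctx S M H L) {g : G} (hg : g ∈ L) (hne : Y₀ ⊔ (Y₀) ^ᶜ g ≠ L) :
    IsPGroup p ↥(Y₀ ⊔ (Y₀) ^ᶜ g) := by
  have hle : ∀ x ∈ L, Y₀ ⊔ (Y₀) ^ᶜ x ≤ L := fun x hx =>
    sup_le c.hYL ((map_mono c.hYL).trans (LocalChar.conj_map_of_mem hx).le)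
  have heq : (Y₀ ⊔ (Y₀) ^ᶜ g⁻¹) ^ᶜ g = Y₀ ⊔ (Y₀) ^ᶜ g := by
    rw [Subgroup.map_sup, conj_map_conj_map, mul_inv_cancel, conj_map_one, sup_comm]
  have h1 := c.le_pCoreOf_of_lt le_sup_left (lt_of_le_of_ne (hle g hg) hne)
  have hne' : Y₀ ⊔ (Y₀) ^ᶜ g⁻¹ ≠ L := fun he => hne (by
    rw [← heq, he, LocalChar.conj_map_of_mem hg])
  have h2 := map_mono (f := (MulAut.conj g).toMonoidHom)
    (c.le_pCoreOf_of_lt le_sup_left (lt_of_le_of_ne (hle _ (inv_mem hg)) hne'))
  rw [← Amalgam.pCoreOf_map _ (MulAut.conj g).injective, heq] at h2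
  exact (CharP.pCoreOf_isPGroup _).to_le (sup_le h1 h2)

theorem exists_gen (c : Ctx S M H L) : ∃ g ∈ L, Y₀ ⊔ (Y₀) ^ᶜ g = L := by
  by_contra hne
  push_neg at hne
  obtain ⟨N, hN, hNp, hYN⟩ := Involution.baer_suzuki (p := p) ((Y₀).subgroupOf L) fun x => by
    have hmap : ((Y₀).subgroupOf L ⊔ ((Y₀).subgroupOf L).map (MulAut.conj x).toMonoidHom).map
        L.subtype = Y₀ ⊔ (Y₀) ^ᶜ (x : G) := by
      rw [Subgroup.map_sup, Subgroup.map_map,
        show L.subtype.comp (MulAut.conj x).toMonoidHom =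
          (MulAut.conj (x : G)).toMonoidHom.comp L.subtype from MonoidHom.ext fun _ => rfl,
        ← Subgroup.map_map, map_subgroupOf_eq_of_le c.hYL]
    refine (c.isPGroup_of_ne x.2 (hne x x.2)).of_equiv ?_
    rw [← hmap]
    exact (equivMapOfInjective _ L.subtype L.subtype_injective).symm
  refine c.hYO ?_
  rw [← map_subgroupOf_eq_of_le c.hYL]
  refine (map_mono hYN).trans (CharP.le_pCoreOf (map_subtype_le N) (hNp.map _) ?_)
  haveI : ((N.map L.subtype).subgroupOf L).Normal := by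
    rw [show (N.map L.subtype).subgroupOf L = N from
      comap_map_eq_self_of_injective L.subtype_injective N]
    exact hN
  exact (normal_subgroupOf_iff_le_normalizer (map_subtype_le N)).mp this

section Gen

variable {g : G}

theorem gen_inv (_c : Ctx S M H L) (hg : g ∈ L) (hgen : Y₀ ⊔ (Y₀) ^ᶜ g = L) :
    Y₀ ⊔ (Y₀) ^ᶜ g⁻¹ = L := by
  conv_rhs => rw [← LocalChar.conj_map_of_mem (inv_mem hg), ← hgen]
  rw [Subgroup.map_sup, conj_map_conj_map, inv_mul_cancel, conj_map_one, sup_comm]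

theorem gen_sup_T (c : Ctx S M H L) (hg : g ∈ L) (hgen : Y₀ ⊔ (Y₀) ^ᶜ g = L) :
    (Y₀) ^ᶜ g ⊔ T₀ = H := by
  refine le_antisymm (sup_le ((map_mono c.Y_le_H).trans (LocalChar.conj_map_of_mem (c.hLH hg)).le)
    c.hH.2.1) ?_
  conv_lhs => rw [← c.sup_T, ← hgen]
  exact sup_le (sup_le (largest_le_pCoreOf.trans le_sup_right) le_sup_left) le_sup_right

/-- `Φ = (Y ∩ O_p(H))^g (O_p(H) ∩ T)` is normal in `H` and contains `[O_p(H), H]`. -/
theorem phi (c : Ctx S M H L) (hg : g ∈ L) (hgen : Y₀ ⊔ (Y₀) ^ᶜ g = L) :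
    H ≤ normalizer (((I₀) ^ᶜ g ⊔ Ω₀ : Subgroup G) : Set G) ∧ ⁅Ω, H⁆ ≤ (I₀) ^ᶜ g ⊔ Ω₀ := by
  have hgH := c.hLH hg
  have hnY : (Y₀) ^ᶜ g ≤ normalizer (((I₀) ^ᶜ g ⊔ Ω₀ : Subgroup G) : Set G) := by
    refine normalizes_sup_of_comm ?_ ?_
    · rw [c.I_conj hgH]
      exact le_normalizer_inf_of_le Subgroup.le_normalizer
        (((map_mono c.Y_le_H).trans (LocalChar.conj_map_of_mem hgH).le).trans
          (CharP.le_normalizer_pCoreOf H))
    · rw [Subgroup.commutator_comm]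
      exact (commutator_mono inf_le_left le_rfl).trans (c.comm_omega_Yg hgH)
  have hnT : T₀ ≤ normalizer (((I₀) ^ᶜ g ⊔ Ω₀ : Subgroup G) : Set G) := by
    rw [sup_comm]
    refine normalizes_sup_of_comm (le_normalizer_inf_of_le
      (c.hH.2.1.trans (CharP.le_normalizer_pCoreOf H)) Subgroup.le_normalizer) ?_
    rw [Subgroup.commutator_comm, c.I_conj hgH]
    exact (commutator_mono inf_le_right le_rfl).trans c.comm_omega_T
  refine ⟨?_, ?_⟩
  · conv_lhs => rw [← c.gen_sup_T hg hgen]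
    exact sup_le hnY hnT
  · have h : ⁅Ω, (Y₀) ^ᶜ g ⊔ T₀⁆ ≤ (I₀) ^ᶜ g ⊔ Ω₀ := comm_sup_le
      ((c.comm_omega_Yg hgH).trans le_sup_left) (c.comm_omega_T.trans le_sup_right) hnY hnT
    rwa [c.gen_sup_T hg hgen] at h

theorem omega0_decomp (c : Ctx S M H L) (hg : g ∈ L) (hgen : Y₀ ⊔ (Y₀) ^ᶜ g = L) {o : G}
    (ho : o ∈ Ω₀) : ∃ i ∈ I₀, ∃ e ∈ Ω₀, e ∈ centralizer (L : Set G) ∧ o = i * e := by
  have hgH := c.hLH hg
  have h1 := (c.phi (inv_mem hg) (c.gen_inv hg hgen)).1 hgH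
  have ho2 : o ∈ I₀ ⊔ (Ω₀) ^ᶜ g := by
    have h2 : ((I₀) ^ᶜ g⁻¹ ⊔ Ω₀) ^ᶜ g = I₀ ⊔ (Ω₀) ^ᶜ g := by
      rw [Subgroup.map_sup, conj_map_conj_map, mul_inv_cancel, conj_map_one]
    rw [← h2, conj_map_eq_of_mem h1]
    exact mem_sup_right ho
  have hn : (Ω₀) ^ᶜ g ≤ normalizer ((I₀ : Subgroup G) : Set G) :=
    ((map_mono inf_le_left).trans (c.omega_conj hgH).le).trans
      (le_normalizer_inf_of_le c.omega_le_normalizer_Y Subgroup.le_normalizer)
  rw [← SetLike.mem_coe, coe_mul_of_right_le_normalizer_left _ _ hn] at ho2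
  obtain ⟨i, hi, e, he, rfl⟩ := ho2
  have hiC : i ∈ C₀ := pCoreOf_le_centralizer_Y (largest_le_pCoreOf hi.1)
  have heC : e ∈ C₀ := by
    have := mul_mem (inv_mem hiC) (pCoreOf_le_centralizer_Y ho.2)
    simpa using this
  have heΩ : e ∈ Ω := (c.omega_conj hgH).le (map_mono inf_le_left he)
  have heg : e ∈ centralizer (((Y₀) ^ᶜ g : Subgroup G) : Set G) := by
    rw [centralizer_conj_map]
    exact map_mono (inf_le_right.trans pCoreOf_le_centralizer_Y) he
  refine ⟨i, hi, e, c.mem_omega0 heΩ heC, ?_, rfl⟩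
  rw [← le_centralizer_singleton_iff, ← hgen]
  exact sup_le (le_centralizer_singleton_iff.mpr heC) (le_centralizer_singleton_iff.mpr heg)

theorem L_le_normalizer_B (c : Ctx S M H L) (hg : g ∈ L) (hgen : Y₀ ⊔ (Y₀) ^ᶜ g = L) :
    L ≤ normalizer ((I₀ ⊔ (I₀) ^ᶜ g : Subgroup G) : Set G) := by
  have hgH := c.hLH hg
  have hI : Y₀ ≤ normalizer ((I₀ : Subgroup G) : Set G) :=
    le_normalizer_inf_of_le Subgroup.le_normalizer (c.Y_le_H.trans (CharP.le_normalizer_pCoreOf H))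
  conv_lhs => rw [← hgen]
  refine sup_le (normalizes_sup_of_comm hI ?_) ?_
  · rw [Subgroup.commutator_comm, c.I_conj hgH]
    exact (commutator_mono inf_le_right le_rfl).trans c.comm_omega_Y
  · rw [sup_comm]
    refine normalizes_sup_of_comm ?_ ?_
    · rw [normalizer_conj_map]
      exact map_mono hI
    · rw [Subgroup.commutator_comm]
      exact (commutator_mono inf_le_right le_rfl).trans (c.comm_omega_Yg hgH)

end Gen

/-- The key step. -/
theorem mem_normalizer_of_le_T (c : Ctx S M H L) {k : G} (hk : k ∈ L) (hkT : (Y₀) ^ᶜ k ≤ T₀) :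
    k ∈ normalizer ((Y₀ : Subgroup G) : Set G) := by
  obtain ⟨g, hg, hgen⟩ := c.exists_gen
  have hgH := c.hLH hg
  have hkH := c.hLH hk
  -- `k` normalizes `I`
  have hkI : k ∈ normalizer ((I₀ : Subgroup G) : Set G) := by
    refine mem_normalizer_of_conj_map_le fun x hx => ?_
    have hx' : x ∈ I₀ ⊔ (I₀) ^ᶜ g := by
      rw [← conj_map_eq_of_mem (c.L_le_normalizer_B hg hgen hk)]
      exact map_mono le_sup_left hx
    have hn : (I₀) ^ᶜ g ≤ normalizer ((I₀ : Subgroup G) : Set G) :=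
      ((map_mono inf_le_right).trans (c.omega_conj hgH).le).trans
        (le_normalizer_inf_of_le c.omega_le_normalizer_Y Subgroup.le_normalizer)
    rw [← SetLike.mem_coe, coe_mul_of_right_le_normalizer_left _ _ hn] at hx'
    obtain ⟨i, hi, j, hj, rfl⟩ := hx'
    refine mul_mem hi ?_
    have hiC : i ∈ C₀ := pCoreOf_le_centralizer_Y (largest_le_pCoreOf hi.1)
    have hjC : j ∈ C₀ := by
      have := mul_mem (inv_mem hiC)
        (pCoreOf_le_centralizer_Y (hkT (map_mono inf_le_left hx)))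
      simpa using this
    have hj0 : g⁻¹ * j * g ∈ I₀ := mem_conj_map.mp hj
    have hc : g⁻¹ * j * g ∈ centralizer (H : Set G) := by
      rw [← le_centralizer_singleton_iff, ← c.gen_sup_T (inv_mem hg) (c.gen_inv hg hgen)]
      refine sup_le ?_ ?_
      · rw [le_centralizer_singleton_iff, centralizer_conj_map]
        exact mem_conj_map.mpr (by simpa [mul_assoc] using hjC)
      · rw [le_centralizer_singleton_iff]
        exact mem_centralizer_iff.mpr fun t ht =>
          (mem_centralizer_iff.mp (pCoreOf_le_centralizer_Y ht) _ hj0.1).symm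
    have : g⁻¹ * j * g = j := by
      calc g⁻¹ * j * g = g * (g⁻¹ * j * g) * g⁻¹ := by
            rw [mem_centralizer_iff.mp hc g hgH, mul_inv_cancel_right]
        _ = j := by group
    rwa [this] at hj0
  -- `k` is trivial on `Ω₀ / I`
  have hstab : ∀ o ∈ Ω₀, k * o * k⁻¹ * o⁻¹ ∈ I₀ := fun o ho => by
    obtain ⟨i, hi, e, -, hec, rfl⟩ := c.omega0_decomp hg hgen ho
    have hke : k * e = e * k := mem_centralizer_iff.mp hec k hk
    rw [show k * (i * e) * k⁻¹ * (i * e)⁻¹ = (k * i * k⁻¹) * ((k * e) * k⁻¹ * e⁻¹) * i⁻¹ by group,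
      hke, mul_inv_cancel_right, mul_inv_cancel, mul_one]
    exact mul_mem (conj_mem_of_mem_normalizer hkI hi) (inv_mem hi)
  have hI0 : I₀ ≤ Ω₀ := le_inf inf_le_right (inf_le_left.trans largest_le_pCoreOf)
  have hkΩ : k ∈ normalizer ((Ω₀ : Subgroup G) : Set G) := mem_normalizer_of_conj_map_le <| by
    rintro _ ⟨o, ho, rfl⟩
    show k * o * k⁻¹ ∈ Ω₀
    have := mul_mem (hI0 (hstab o ho)) ho
    simpa using this
  set X := T₀ ⊔ (T₀) ^ᶜ k with hX
  have hXH : X ≤ H := sup_le c.hH.2.1 ((map_mono c.hH.2.1).trans (LocalChar.conj_map_of_mem hkH).le)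
  have hTn0 : T₀ ≤ normalizer ((Ω₀ : Subgroup G) : Set G) :=
    le_normalizer_inf_of_le (c.hH.2.1.trans (CharP.le_normalizer_pCoreOf H)) Subgroup.le_normalizer
  have hTk0 : (T₀) ^ᶜ k ≤ normalizer ((Ω₀ : Subgroup G) : Set G) := by
    conv_rhs => rw [← conj_map_eq_of_mem hkΩ, normalizer_conj_map]
    exact map_mono hTn0
  have hTCI : T₀ ≤ centralizer ((I₀ : Subgroup G) : Set G) :=
    pCoreOf_le_centralizer_Y.trans (centralizer_le (fun x hx => hx.1))
  have hTkCI : (T₀) ^ᶜ k ≤ centralizer ((I₀ : Subgroup G) : Set G) := by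
    conv_rhs => rw [← conj_map_eq_of_mem hkI, centralizer_conj_map]
    exact map_mono hTCI
  have hXCI : X ≤ centralizer ((I₀ : Subgroup G) : Set G) := sup_le hTCI hTkCI
  have hXn0 : X ≤ normalizer ((Ω₀ : Subgroup G) : Set G) := sup_le hTn0 hTk0
  have hXI : X ≤ normalizer ((I₀ : Subgroup G) : Set G) :=
    hXCI.trans (centralizer_le_normalizer _)
  have hΩX : ⁅Ω, X⁆ ≤ Ω₀ := by
    refine comm_sup_le c.comm_omega_T ?_ hTn0 hTk0
    have h := map_mono (f := (MulAut.conj k).toMonoidHom) c.comm_omega_T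
    rwa [Subgroup.map_commutator, c.omega_conj hkH, conj_map_eq_of_mem hkΩ] at h
  have hXY : ⁅X, Y₀⁆ ≤ Ω := by
    have h1 : ⁅⁅X, Y₀⁆, Ω⁆ = ⊥ := by
      refine commutator_commutator_eq_bot_of_rotate ?_ ?_
      · rw [eq_bot_iff]
        refine le_trans (commutator_mono (show ⁅Y₀, Ω⁆ ≤ I₀ from ?_) le_rfl) (le_of_eq ?_)
        · rw [Subgroup.commutator_comm]; exact c.comm_omega_Y
        · rw [Subgroup.commutator_comm]; exact commutator_eq_bot_iff_le_centralizer.mpr hXCI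
      · rw [eq_bot_iff]
        refine le_trans (commutator_mono hΩX le_rfl) (le_of_eq ?_)
        exact commutator_eq_bot_iff_le_centralizer.mpr
          (inf_le_right.trans pCoreOf_le_centralizer_Y)
    refine (le_inf ?_ (commutator_eq_bot_iff_le_centralizer.mp h1)).trans
      ((Amalgam.charP_iff_ambient H).mp c.hH.1)
    exact (commutator_mono hXH c.Y_le_H).trans
      (Subgroup.commutator_le.mpr fun a ha b hb =>
        mul_mem (mul_mem (mul_mem ha hb) (inv_mem ha)) (inv_mem hb))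
  -- `p'`-elements of `X` centralize `Y`
  set St := stabilizesSection (Ω₀) (I₀) with hSt
  have hTSt : T₀ ≤ normalizer (St : Set G) :=
    le_normalizer_stabilizesSection hTn0 c.T_le_normalizer_I
  have hXle : X ≤ St ⊔ T₀ := by
    refine sup_le le_sup_right ?_
    rintro _ ⟨t, ht, rfl⟩
    show k * t * k⁻¹ ∈ St ⊔ T₀
    rw [show k * t * k⁻¹ = (k * t * k⁻¹ * t⁻¹) * t by group]
    refine mul_mem (mem_sup_left ⟨?_, ?_, fun o ho => ?_⟩) (mem_sup_right ht)
    · exact mul_mem (mul_mem (mul_mem hkΩ (hTn0 ht)) (inv_mem hkΩ)) (inv_mem (hTn0 ht))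
    · exact mul_mem (mul_mem (mul_mem hkI (c.T_le_normalizer_I ht)) (inv_mem hkI))
        (inv_mem (c.T_le_normalizer_I ht))
    · have ha : t⁻¹ * o * t ∈ Ω₀ := conj_mem_of_mem_normalizer' (hTn0 ht) ho
      have hi1 : k⁻¹ * (t⁻¹ * o * t) * k * (t⁻¹ * o * t)⁻¹ ∈ I₀ := by
        have h := inv_mem (hstab _ (conj_mem_of_mem_normalizer' hkΩ ha))
        simpa [mul_assoc] using h
      have e1 : (k * t * k⁻¹ * t⁻¹) * o * (k * t * k⁻¹ * t⁻¹)⁻¹ * o⁻¹ =
          (k * (t * (k⁻¹ * (t⁻¹ * o * t) * k * (t⁻¹ * o * t)⁻¹) * t⁻¹) * k⁻¹) *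
            (k * o * k⁻¹ * o⁻¹) := by group
      rw [e1]
      exact mul_mem (conj_mem_of_mem_normalizer hkI
        (conj_mem_of_mem_normalizer (c.T_le_normalizer_I ht) hi1)) (hstab o ho)
  have hres : (pResidual p ↥X).map X.subtype ≤ C₀ := by
    refine resOf_le_iff.mpr fun x hx hco => ?_
    have hxS : x ∈ St := mem_of_le_sup (CharP.pCoreOf_isPGroup M) hTSt (hXle hx) hco
    have hx1 : x ∈ centralizer ((Ω₀ : Subgroup G) : Set G) :=
      Narrow.centralizes_of_stabilizes ((CharP.pCoreOf_isPGroup H).to_le inf_le_right) hco hxS.1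
        hxS.2.1 hxS.2.2 (hXCI hx)
    have hxΩ : x ∈ normalizer ((Ω : Subgroup G) : Set G) := CharP.le_normalizer_pCoreOf H (hXH hx)
    have hx2 : x ∈ centralizer ((Ω : Subgroup G) : Set G) := by
      refine Narrow.centralizes_of_stabilizes ((CharP.pCoreOf_isPGroup H).to_le inf_le_left) hco
        hxΩ hxS.1 (fun u hu => ?_) hx1
      rw [show x * u * x⁻¹ * u⁻¹ = ⁅x, u⁆ from rfl]
      exact hΩX (by rw [Subgroup.commutator_comm]; exact commutator_mem_commutator hx hu)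
    have hc : ⁅X, Y₀ ⊔ Ω⁆ ≤ Ω := comm_sup_le hXY
      (by rw [Subgroup.commutator_comm]; exact hΩX.trans inf_le_left)
      (c.Y_le_H.trans (CharP.le_normalizer_pCoreOf H)) Subgroup.le_normalizer
    have hst : ∀ u ∈ Y₀ ⊔ Ω, x * u * x⁻¹ * u⁻¹ ∈ Ω := fun u hu =>
      hc (commutator_mem_commutator hx hu)
    have hxn : x ∈ normalizer ((Y₀ ⊔ Ω : Subgroup G) : Set G) := mem_normalizer_of_conj_map_le <| by
      rintro _ ⟨u, hu, rfl⟩
      show x * u * x⁻¹ ∈ Y₀ ⊔ Ω
      have := mul_mem ((le_sup_right : Ω ≤ Y₀ ⊔ Ω) (hst u hu)) hu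
      simpa using this
    exact centralizer_le (fun y hy => mem_sup_left hy)
      (Narrow.centralizes_of_stabilizes (CharP.pCoreOf_isPGroup H) hco hxn hxΩ hst hx2)
  -- a Sylow subgroup of `X` above `T` normalizes `T`
  obtain ⟨P, hP⟩ := exists_sylow_of T₀ (CharP.pCoreOf_isPGroup M) (le_sup_left : T₀ ≤ X)
  have hwc := c.bs.isWeaklyClosed c.hasym
  have hPN : (P : Subgroup ↥X).map X.subtype ≤ normalizer ((T₀ : Subgroup G) : Set G) :=
    Subgroup.le_normalizer.trans (wc_normalizer_le hwc (P.isPGroup'.map _) hP)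
  have hXY' : X ≤ normalizer ((Y₀ : Subgroup G) : Set G) := by
    conv_lhs => rw [← resOf_sup_sylow X P]
    exact sup_le (hres.trans (centralizer_le_normalizer _)) (hPN.trans c.normalizer_T_le)
  obtain ⟨a, ha, hle⟩ := exists_conj_le_sylow_map P (le_sup_right : (T₀) ^ᶜ k ≤ X)
    ((CharP.pCoreOf_isPGroup M).map _)
  rw [conj_map_conj_map] at hle
  have hak := mem_normalizer_iff_conj_map.mpr (wc_eq_of_le_pGroup hwc (P.isPGroup'.map _) hP hle)
  have := mul_mem (inv_mem (hXY' ha)) (c.normalizer_T_le hak)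
  simpa using this

theorem mem_normalizer_of_mutual (c : Ctx S M H L) {k : G} (hk : k ∈ L)
    (h1 : (Y₀) ^ᶜ k ≤ normalizer ((Y₀ : Subgroup G) : Set G))
    (h2 : Y₀ ≤ normalizer (((Y₀) ^ᶜ k : Subgroup G) : Set G)) :
    k ∈ normalizer ((Y₀ : Subgroup G) : Set G) := by
  have hcomm : ⁅Y₀, (Y₀) ^ᶜ k⁆ = ⊥ := by
    by_contra hne
    exact c.hasym ⟨k, hne, le_inf (le_normalizer_iff_commutator_le_left.mp h1)
      (le_normalizer_iff_commutator_le_right.mp h2)⟩
  have hYk : (Y₀) ^ᶜ k ≤ H ⊓ C₀ := le_inf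
    ((map_mono c.Y_le_H).trans (LocalChar.conj_map_of_mem (c.hLH hk)).le)
    (commutator_eq_bot_iff_le_centralizer.mp (by rw [Subgroup.commutator_comm]; exact hcomm))
  have hTC : T₀ ≤ H ⊓ C₀ := le_inf c.hH.2.1 pCoreOf_le_centralizer_Y
  obtain ⟨P, hP⟩ := exists_sylow_of T₀ (CharP.pCoreOf_isPGroup M) hTC
  have hPT : (P : Subgroup ↥(H ⊓ C₀)).map (H ⊓ C₀).subtype = T₀ := by
    by_contra hne
    obtain ⟨x, hxP, hxT, hxN⟩ := exists_mem_normalizer_not_mem (P.isPGroup'.map _) hP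
      (fun he => hne he.symm)
    exact hxT (c.bs.le_pCoreOf ((P.isPGroup'.map _).to_le (zpowers_le.mpr hxP))
      (zpowers_le.mpr (map_subtype_le _ hxP).2) (zpowers_le.mpr hxN) (mem_zpowers x))
  obtain ⟨a, ha, hle⟩ := exists_conj_le_sylow_map P hYk ((isRedIn_largest (p := p) M).isPGroup.map _)
  rw [hPT, conj_map_conj_map] at hle
  have hY' : (Y₀) ^ᶜ a⁻¹ = Y₀ :=
    conj_map_eq_of_mem (centralizer_le_normalizer _ (inv_mem ha.2))
  have h3 := (c.conj ha.1 ha.2).mem_normalizer_of_le_T (k := a * k * a⁻¹) (conj_mem_conj_map hk)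
    (by rw [← conj_map_conj_map, hY']; exact hle)
  have haN := centralizer_le_normalizer _ ha.2
  have := mul_mem (mul_mem (inv_mem haN) h3) haN
  simpa [mul_assoc] using this

theorem pgroup_le_normalizer (c : Ctx S M H L) {P : Subgroup G} (hP : IsPGroup p ↥P) (hPL : P ≤ L)
    (hYP : Y₀ ≤ P) : P ≤ normalizer ((Y₀ : Subgroup G) : Set G) := by
  by_contra hne
  obtain ⟨d, hdP, hdN, hd⟩ := exists_mem_normalizer_not_mem hP
    (X := P ⊓ normalizer ((Y₀ : Subgroup G) : Set G)) inf_le_left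
    (fun he => hne (he.ge.trans inf_le_right))
  have hYN : Y₀ ≤ P ⊓ normalizer ((Y₀ : Subgroup G) : Set G) := le_inf hYP Subgroup.le_normalizer
  refine hdN ⟨hdP, c.mem_normalizer_of_mutual (hPL hdP) ?_ ?_⟩
  · exact ((map_mono hYN).trans (conj_map_eq_of_mem hd).le).trans inf_le_right
  · rw [normalizer_conj_map]
    exact hYN.trans ((conj_map_eq_of_mem hd).ge.trans (map_mono inf_le_right))

theorem mem_normalizer_of_pair (c : Ctx S M H L) {k : G} (hk : k ∈ L)
    (hp' : IsPGroup p ↥(Y₀ ⊔ (Y₀) ^ᶜ k)) : k ∈ normalizer ((Y₀ : Subgroup G) : Set G) := by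
  have hle : Y₀ ⊔ (Y₀) ^ᶜ k ≤ L :=
    sup_le c.hYL ((map_mono c.hYL).trans (LocalChar.conj_map_of_mem hk).le)
  refine c.mem_normalizer_of_mutual hk (le_sup_right.trans (c.pgroup_le_normalizer hp' hle le_sup_left)) ?_
  have h := c.pgroup_le_normalizer (hp'.map (MulAut.conj k⁻¹).toMonoidHom)
    ((map_mono hle).trans (LocalChar.conj_map_of_mem (inv_mem hk)).le) (by
      rw [Subgroup.map_sup, conj_map_conj_map, inv_mul_cancel, conj_map_one]; exact le_sup_right)
  rw [conj_map_le_iff, inv_inv, ← normalizer_conj_map] at h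
  exact le_sup_left.trans h

theorem gen_of_not (c : Ctx S M H L) {k : G} (hk : k ∈ L)
    (hn : k ∉ normalizer ((Y₀ : Subgroup G) : Set G)) : Y₀ ⊔ (Y₀) ^ᶜ k = L :=
  Classical.by_contradiction fun hne => hn (c.mem_normalizer_of_pair hk (c.isPGroup_of_ne hk hne))

theorem le_normalizer_of_lt (c : Ctx S M H L) {X : Subgroup G} (hY : Y₀ ≤ X) (hX : X < L) :
    X ≤ normalizer ((Y₀ : Subgroup G) : Set G) := fun x hx =>
  c.mem_normalizer_of_pair (hX.le hx) ((CharP.pCoreOf_isPGroup X).to_le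
    (sup_le (c.le_pCoreOf_of_lt hY hX) ((map_mono (c.le_pCoreOf_of_lt hY hX)).trans
      (conj_map_eq_of_mem (CharP.le_normalizer_pCoreOf X hx)).le)))

theorem inf_normalizer_lt (c : Ctx S M H L) :
    L ⊓ normalizer ((Y₀ : Subgroup G) : Set G) < L := by
  refine lt_of_le_of_ne inf_le_left fun he => ?_
  obtain ⟨g, hg, hgen⟩ := c.exists_gen
  rw [conj_map_eq_of_mem ((he.ge hg).2), sup_idem] at hgen
  exact c.hYO (CharP.le_pCoreOf c.hYL (isRedIn_largest (p := p) M).isPGroup (he.ge.trans inf_le_right))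

theorem isMinimalOver (c : Ctx S M H L) : IsMinimalOver ((Y₀).subgroupOf L) := by
  obtain ⟨g, hg, hgen⟩ := c.exists_gen
  have hlt := c.inf_normalizer_lt
  refine ⟨?_, ?_⟩
  · rw [← subgroupOf_eq_top.mpr (le_refl L), eq_comm]
    refine le_antisymm ?_ (by simp)
    have hN : L ≤ (normalClosure (((Y₀).subgroupOf L : Subgroup ↥L) : Set ↥L)).map L.subtype := by
      conv_lhs => rw [← hgen]
      refine sup_le ?_ ?_
      · conv_lhs => rw [← map_subgroupOf_eq_of_le c.hYL]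
        exact map_mono le_normalClosure
      · rintro _ ⟨y, hy, rfl⟩
        exact ⟨⟨g, hg⟩ * ⟨y, c.hYL hy⟩ * ⟨g, hg⟩⁻¹,
          normalClosure_normal.conj_mem _ (subset_normalClosure (show (⟨y, c.hYL hy⟩ : ↥L) ∈
            (Y₀).subgroupOf L from hy)) _, rfl⟩
    intro x _
    obtain ⟨z, hz, hzx⟩ := hN x.2
    exact Subtype.ext (a1 := z) (a2 := x) hzx ▸ hz
  · set K : Subgroup ↥L := (L ⊓ normalizer ((Y₀ : Subgroup G) : Set G)).subgroupOf L with hK
    have key : ∀ X : Subgroup ↥L, X ≠ ⊤ → (Y₀).subgroupOf L ≤ X → X ≤ K := by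
      intro X hX hYX x hx
      have hlt' : X.map L.subtype < L := by
        refine lt_of_le_of_ne (map_subtype_le X) fun he => hX ?_
        rw [eq_top_iff]
        intro z _
        obtain ⟨w, hw, hwz⟩ := he.ge z.2
        exact Subtype.ext (a1 := w) (a2 := z) hwz ▸ hw
      exact ⟨x.2, c.le_normalizer_of_lt (by rw [← map_subgroupOf_eq_of_le c.hYL]; exact map_mono hYX)
        hlt' (mem_map_of_mem _ hx)⟩
    have hKne : K ≠ ⊤ := fun he => hlt.not_ge (subgroupOf_eq_top.mp he)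
    have hYK : (Y₀).subgroupOf L ≤ K := fun x hx => ⟨x.2, Subgroup.le_normalizer hx⟩
    refine ⟨K, ⟨⟨hKne, fun X hX => ?_⟩, hYK⟩, fun X hX => ?_⟩
    · by_contra hne
      exact hX.not_ge (key X hne (hYK.trans hX.le))
    · rcases (key X hX.1.1 hX.2).eq_or_lt with h | h
      · exact h
      · exact absurd (hX.1.2 K h) hKne

theorem inf_omega_le_pCoreOf (c : Ctx S M H L) : L ⊓ Ω ≤ pCoreOf p L :=
  CharP.le_pCoreOf inf_le_left ((CharP.pCoreOf_isPGroup H).to_le inf_le_right)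
    (le_normalizer_inf_of_le Subgroup.le_normalizer (c.hLH.trans (CharP.le_normalizer_pCoreOf H)))

theorem charP (c : Ctx S M H L) : centralizer (pCore p ↥L : Set ↥L) ≤ pCore p ↥L := by
  rw [Amalgam.charP_iff_ambient]
  obtain ⟨g, hg, hgen⟩ := c.exists_gen
  have hgH := c.hLH hg
  refine CharP.le_pCoreOf inf_le_left (isPGroup_subgroup_of_forall_coprime fun x hx hco => ?_)
    (le_normalizer_inf_of_le Subgroup.le_normalizer
      (le_normalizer_centralizer_of_le (CharP.le_normalizer_pCoreOf L)))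
  have hB : ∀ z ∈ L ⊓ Ω, z ∈ centralizer ({x} : Set G) := fun z hz =>
    le_centralizer_singleton_iff.mpr hx.2 (c.inf_omega_le_pCoreOf hz)
  have hΦ : (I₀) ^ᶜ g ⊔ Ω₀ ≤ centralizer ({x} : Set G) := by
    refine sup_le ?_ fun o ho => ?_
    · intro z hz
      exact hB z ⟨(LocalChar.conj_map_of_mem hg).le (map_mono (inf_le_left.trans c.hYL) hz),
        (c.omega_conj hgH).le (map_mono inf_le_right hz)⟩
    · obtain ⟨i, hi, e, -, hec, rfl⟩ := c.omega0_decomp hg hgen ho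
      exact mul_mem (hB i ⟨c.hYL hi.1, hi.2⟩)
        (mem_centralizer_singleton_iff.mpr (mem_centralizer_iff.mp hec x hx.1).symm)
  have hxH := c.hLH hx.1
  obtain ⟨hn, hc⟩ := c.phi hg hgen
  have hxC : x ∈ centralizer ((Ω : Subgroup G) : Set G) :=
    Narrow.centralizes_of_stabilizes
      ((CharP.pCoreOf_isPGroup H).to_le (sup_le ((map_mono inf_le_right).trans (c.omega_conj hgH).le)
        inf_le_left))
      hco (CharP.le_normalizer_pCoreOf H hxH) (hn hxH)
      (fun u hu => hc (by rw [Subgroup.commutator_comm]; exact commutator_mem_commutator hxH hu))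
      (le_centralizer_singleton_iff.mp hΦ)
  obtain ⟨n, hn'⟩ := (CharP.pCoreOf_isPGroup H)
    ⟨x, (Amalgam.charP_iff_ambient H).mp c.hH.1 ⟨hxH, hxC⟩⟩
  exact orderOf_eq_one_iff.mp (Nat.eq_one_of_dvd_coprimes (hco.pow_right n) dvd_rfl
    (orderOf_dvd_of_pow_eq_one (congrArg Subtype.val hn')))

theorem chief (c : Ctx S M H L) (V W : Subgroup G) (hV : V ≤ Ω)
    (hVn : H ≤ normalizer (V : Set G)) (hWn : H ≤ normalizer (W : Set G)) (hWV : W < V)
    (hirr : ∀ Z : Subgroup G, H ≤ normalizer (Z : Set G) → W ≤ Z → Z ≤ V → Z = W ∨ Z = V)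
    (hnc : ¬ ⁅V, H⁆ ≤ W) : ¬ ⁅V, (pResidual p ↥L).map L.subtype⁆ ≤ W := by
  intro hR
  set R := (pResidual p ↥L).map L.subtype with hRdef
  have hRH : R ≤ H := (resOf_le L).trans c.hLH
  have hHR : R ⊔ T₀ = H := by
    refine le_antisymm (sup_le hRH c.hH.2.1) ?_
    conv_lhs => rw [← c.sup_T, ← c.resOf_sup_Y]
    exact sup_le (sup_le le_sup_left (largest_le_pCoreOf.trans le_sup_right)) le_sup_right
  have hTV : ⁅V, T₀⁆ ≤ V := le_normalizer_iff_commutator_le_left.mp (c.hH.2.1.trans hVn)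
  have hle : W ⊔ ⁅V, T₀⁆ ≤ V := sup_le hWV.le hTV
  have hn : H ≤ normalizer ((W ⊔ ⁅V, T₀⁆ : Subgroup G) : Set G) := by
    conv_lhs => rw [← hHR]
    refine sup_le ?_ (le_normalizer_sup_of_le (c.hH.2.1.trans hWn)
      (Subgroup.normalizer_commutator_ge_right V T₀))
    refine normalizes_sup_of_comm (hRH.trans hWn) ?_
    rw [Subgroup.commutator_comm]
    exact (commutator_mono hTV le_rfl).trans hR
  rcases hirr _ hn le_sup_left hle with h | h
  · refine hnc ?_
    conv_lhs => rw [← hHR]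
    exact comm_sup_le hR (le_sup_right.trans h.le) (hRH.trans hWn) (c.hH.2.1.trans hWn)
  · exact hWV.not_ge (le_of_le_sup_commutator ((CharP.pCoreOf_isPGroup H).to_le hV)
      (CharP.pCoreOf_isPGroup M) (c.hH.2.1.trans hVn)
      (sup_le ((hV.trans (CharP.pCoreOf_le H)).trans hWn) (c.hH.2.1.trans hWn)) h.ge)

theorem normalClosure_le (c : Ctx S M H L) :
    (normalClosure (((pCoreOf p L ⊓ Y₀).subgroupOf L : Subgroup ↥L) : Set ↥L)).map L.subtype ≤ Ω := by
  obtain ⟨g, hg, hgen⟩ := c.exists_gen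
  have hgH := c.hLH hg
  obtain ⟨hnΦ, hcΦ⟩ := c.phi hg hgen
  set Φ : Subgroup G := (I₀) ^ᶜ g ⊔ Ω₀ with hΦdef
  set Z : Subgroup G := Ω ⊓ centralizer (H : Set G) with hZdef
  have hnZ : H ≤ normalizer (Z : Set G) :=
    le_normalizer_inf_of_le (CharP.le_normalizer_pCoreOf H)
      (le_normalizer_centralizer_of_le Subgroup.le_normalizer)
  set K : Subgroup G := H ⊓ stabilizesSection Ω Φ ⊓ stabilizesSection Φ Z with hKdef
  have hKH : K ≤ H := inf_le_left.trans inf_le_left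
  have hnK : H ≤ normalizer (K : Set G) :=
    le_normalizer_inf_of_le (le_normalizer_inf_of_le Subgroup.le_normalizer
      (le_normalizer_stabilizesSection (CharP.le_normalizer_pCoreOf H) hnΦ))
      (le_normalizer_stabilizesSection hnΦ hnZ)
  have hΦΩ : Φ ≤ Ω := sup_le ((map_mono inf_le_right).trans (c.omega_conj hgH).le) inf_le_left
  have hKp : IsPGroup p ↥K := isPGroup_subgroup_of_forall_coprime fun x hx hco => by
    have hxH := hKH hx
    have h1 : x ∈ centralizer (Φ : Set G) :=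
      Narrow.centralizes_of_stabilizes ((CharP.pCoreOf_isPGroup H).to_le inf_le_left) hco hx.2.1
        hx.2.2.1 hx.2.2.2 (mem_centralizer_iff.mpr fun z hz =>
          (mem_centralizer_iff.mp hz.2 x hxH).symm)
    have h2 : x ∈ centralizer ((Ω : Subgroup G) : Set G) :=
      Narrow.centralizes_of_stabilizes ((CharP.pCoreOf_isPGroup H).to_le hΦΩ) hco hx.1.2.1
        hx.1.2.2.1 hx.1.2.2.2 h1
    obtain ⟨n, hn'⟩ := (CharP.pCoreOf_isPGroup H)
      ⟨x, (Amalgam.charP_iff_ambient H).mp c.hH.1 ⟨hxH, h2⟩⟩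
    exact orderOf_eq_one_iff.mp (Nat.eq_one_of_dvd_coprimes (hco.pow_right n) dvd_rfl
      (orderOf_dvd_of_pow_eq_one (congrArg Subtype.val hn')))
  have hKΩ : K ≤ Ω := CharP.le_pCoreOf hKH hKp hnK
  refine le_trans ?_ hKΩ
  rintro _ ⟨x, hx, rfl⟩
  have hB : pCoreOf p L ⊓ Y₀ ≤ K := fun b hb => by
    have hbH := c.Y_le_H hb.2
    refine ⟨⟨hbH, CharP.le_normalizer_pCoreOf H hbH, hnΦ hbH, fun w hw => ?_⟩,
      hnΦ hbH, hnZ hbH, fun w hw => ?_⟩
    · exact hcΦ (by rw [Subgroup.commutator_comm]; exact commutator_mem_commutator hbH hw)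
    · refine (show ⁅pCoreOf p L ⊓ Y₀, Φ⁆ ≤ Z from ?_) (commutator_mem_commutator hb hw)
      refine comm_sup_le ?_ ?_ ?_ ?_
      · refine Subgroup.commutator_le.mpr fun b hb j hj => ?_
        have hjY : j ∈ (Y₀) ^ᶜ g := map_mono inf_le_left hj
        have hjΩ : j ∈ Ω := (c.omega_conj hgH).le (map_mono inf_le_right hj)
        have hbN : b ∈ normalizer (((Y₀) ^ᶜ g : Subgroup G) : Set G) := by
          have hPN : pCoreOf p L ≤ normalizer ((Y₀ : Subgroup G) : Set G) :=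
            le_sup_left.trans (c.pgroup_le_normalizer
              (P := pCoreOf p L ⊔ Y₀) ((CharP.pCoreOf_isPGroup L).to_sup_of_normal_left'
                (isRedIn_largest (p := p) M).isPGroup (c.hYL.trans (CharP.le_normalizer_pCoreOf L)))
              (sup_le (CharP.pCoreOf_le L) c.hYL) le_sup_right)
          rw [normalizer_conj_map]
          refine map_mono hPN ?_
          rw [conj_map_eq_of_mem (CharP.le_normalizer_pCoreOf L hg)]
          exact hb.1
        have hzg : ⁅b, j⁆ ∈ (Y₀) ^ᶜ g :=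
          mul_mem (conj_mem_of_mem_normalizer hbN hjY) (inv_mem hjY)
        have hzY : ⁅b, j⁆ ∈ I₀ := c.comm_omega_Y (by
          rw [Subgroup.commutator_comm]; exact commutator_mem_commutator hb.2 hjΩ)
        refine ⟨hzY.2, ?_⟩
        show ⁅b, j⁆ ∈ centralizer (H : Set G)
        rw [← le_centralizer_singleton_iff, ← c.gen_sup_T hg hgen]
        refine sup_le (le_centralizer_singleton_iff.mpr ?_) (le_centralizer_singleton_iff.mpr ?_)
        · rw [centralizer_conj_map]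
          exact map_mono (largest_le_pCoreOf.trans pCoreOf_le_centralizer_Y) hzg
        · exact mem_centralizer_iff.mpr fun t ht =>
            (mem_centralizer_iff.mp (pCoreOf_le_centralizer_Y ht) _ hzY.1).symm
      · refine le_trans (le_of_eq ?_) bot_le
        exact commutator_eq_bot_iff_le_centralizer.mpr
          (inf_le_right.trans (le_centralizer_iff.mp (inf_le_right.trans pCoreOf_le_centralizer_Y)))
      · exact ((le_sup_left : (I₀) ^ᶜ g ≤ Φ).trans (hΦΩ.trans (CharP.pCoreOf_le H))).trans hnZ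
      · exact ((le_sup_right : Ω₀ ≤ Φ).trans (hΦΩ.trans (CharP.pCoreOf_le H))).trans hnZ
  haveI : (K.subgroupOf L).Normal := by
    refine ⟨fun y hy a => ?_⟩
    exact mem_subgroupOf.mpr (conj_mem_of_mem_normalizer (hnK (c.hLH a.2)) (mem_subgroupOf.mp hy) :)
  exact normalClosure_le_normal (N := K.subgroupOf L) (fun y hy => hB (mem_subgroupOf.mp hy)) hx

end Ctx

end Cfsg.Agent.Lib.LLemmaAsym55
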